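import Mathlib
import Groth.Agent.Depth.Basic
import Groth.Agent.CAlgBasics.Depth
import Groth.Agent.CAlgBasics.ReflexiveDepth

/-!
The depth along an ideal is the infimum of the depths of the stalks over the ideal; depth of kernels.
-/

namespace Groth.Agent.QGorLib

open RingTheory.Sequence IsLocalRing Module

universe u

section Local

variable {R : Type u} [CommRing R] [IsLocalRing R] [IsNoetherianRing R]

theorem depth_le_supportDim (M : Type u) [AddCommGroup M] [Module R M] [Module.Finite R M]
    [Nontrivial M] : ((LocCoh.depth R M : ℕ∞) : WithBot ℕ∞) ≤ Module.supportDim R M := by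
  have hne := CAlgBasics.maximalIdeal_smul_top_ne_top (R := R) (M := M)
  obtain ⟨rs, hrs⟩ := Depth.exists_isMaxSeq (M := M) hne
  have hreg := Depth.isRegular_of_isWeaklyRegular hne hrs.1 hrs.2.1
  haveI : Nontrivial (M ⧸ (Ideal.ofList rs • (⊤ : Submodule R M))) := by
    obtain ⟨x, hx, -⟩ := hrs.2.2
    exact Submodule.Quotient.nontrivial_iff.mpr fun h => hx (h.symm.le Submodule.mem_top)
  have h0 : (0 : WithBot ℕ∞) ≤ Module.supportDim R (M ⧸ (Ideal.ofList rs • (⊤ : Submodule R M))) :=
    Order.krullDim_nonneg_iff.mpr (Set.nonempty_coe_sort.mpr Module.nonempty_support_of_nontrivial)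
  rw [← Module.supportDim_add_length_eq_supportDim_of_isRegular rs hreg, LocCoh.depth,
    Depth.idealDepth_eq_length hne hrs]
  exact le_trans (by simp) (add_le_add_left h0 _)

variable {G E0 E1 : Type u} [AddCommGroup G] [Module R G] [Module.Finite R G]
  [AddCommGroup E0] [Module R E0] [Module.Finite R E0]
  [AddCommGroup E1] [Module R E1] [Module.Finite R E1]

theorem one_le_depth_of_injective (f : G →ₗ[R] E0) (hf : Function.Injective f)
    (h0 : 1 ≤ LocCoh.depth R E0) : 1 ≤ LocCoh.depth R G := by
  rw [CAlgBasics.one_le_depth_iff] at h0 ⊢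
  exact fun x hx => hf (by
    rw [map_zero]
    exact h0 _ fun a ha => by rw [← map_smul, hx a ha, map_zero])

theorem two_le_depth_of_exact (f : G →ₗ[R] E0) (u : E0 →ₗ[R] E1) (hf : Function.Injective f)
    (hfu : Function.Exact f u) (h0 : 2 ≤ LocCoh.depth R E0) (h1 : 1 ≤ LocCoh.depth R E1) :
    2 ≤ LocCoh.depth R G := by
  rcases subsingleton_or_nontrivial E0 with hE | hE
  · haveI := hf.subsingleton
    rw [CAlgBasics.depth_eq_top]
    exact le_top
  rw [CAlgBasics.two_le_depth_iff] at h0 ⊢
  obtain ⟨s0, s2⟩ := h0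
  rw [CAlgBasics.one_le_depth_iff] at h1
  refine ⟨fun x hx => hf (by
    rw [map_zero]
    exact s0 _ fun a ha => by rw [← map_smul, hx a ha, map_zero]), fun r hr hreg => ?_⟩
  obtain ⟨s, hs, hsreg⟩ := s0.exists_isSMulRegular
  have hsG : IsSMulRegular G s := fun a b hab => hf (hsreg (by
    simpa only [map_smul] using congrArg f hab))
  refine CAlgBasics.socleZeroMod_of_socleZeroMod hreg hsG hs fun z hz => ?_
  obtain ⟨w, hw⟩ := s2 s hs hsreg (f z) fun a ha => by
    obtain ⟨v, hv⟩ := hz a ha
    exact ⟨f v, by rw [← map_smul, hv, map_smul]⟩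
  have hw0 : u w = 0 := h1 _ fun a ha => by
    obtain ⟨v, hv⟩ := hz a ha
    have : a • w = f v := hsreg (by
      show s • (a • w) = s • f v
      rw [smul_comm, ← hw, ← map_smul, hv, map_smul])
    rw [← map_smul, this, hfu.apply_apply_eq_zero]
  obtain ⟨g, rfl⟩ := (hfu w).mp hw0
  exact ⟨g, hf (by rw [hw, map_smul])⟩

end Local

section Global

variable {A : Type u} [CommRing A] [IsNoetherianRing A]
  {M : Type u} [AddCommGroup M] [Module A M] [Module.Finite A M]

/-- `depth_I M ≥ n` iff all stalks over `V(I)` have depth at least `n`. -/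
theorem le_idealDepth_iff_forall {I : Ideal A} (n : ℕ) :
    (n : ℕ∞) ≤ LocCoh.idealDepth I M ↔ ∀ p : PrimeSpectrum A, I ≤ p.asIdeal →
      (n : ℕ∞) ≤ LocCoh.depth (Localization.AtPrime p.asIdeal) (LocalizedModule p.asIdeal.primeCompl M) := by
  constructor
  · intro h p hIp
    let B := Localization.AtPrime p.asIdeal
    let N := LocalizedModule p.asIdeal.primeCompl M
    let f := LocalizedModule.mkLinearMap p.asIdeal.primeCompl M
    haveI : Module.Flat A B := IsLocalization.flat B p.asIdeal.primeCompl
    rcases subsingleton_or_nontrivial N with hN | hN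
    · rw [CAlgBasics.depth_eq_top]
      exact le_top
    have hne := CAlgBasics.maximalIdeal_smul_top_ne_top (R := B) (M := N)
    have hI : I • (⊤ : Submodule A M) ≠ ⊤ := by
      intro hI
      apply hne
      rw [eq_top_iff]
      intro x _
      obtain ⟨⟨m, s⟩, rfl⟩ := IsLocalizedModule.mk'_surjective p.asIdeal.primeCompl f x
      have hm : f m ∈ maximalIdeal B • (⊤ : Submodule B N) := by
        have hmI : m ∈ I • (⊤ : Submodule A M) := hI.symm.le Submodule.mem_top
        refine Submodule.smul_induction_on hmI (fun a ha y _ => ?_) fun y z hy hz => ?_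
        · rw [map_smul, ← algebraMap_smul B a (f y)]
          exact Submodule.smul_mem_smul
            ((IsLocalization.AtPrime.to_map_mem_maximal_iff B p.asIdeal a).mpr (hIp ha)) Submodule.mem_top
        · rw [map_add]
          exact add_mem hy hz
      obtain ⟨c, hc⟩ := IsLocalization.map_units B s
      rw [Function.uncurry_apply_pair]
      have hx : IsLocalizedModule.mk' f m s = ((c⁻¹ : Bˣ) : B) • f m := by
        rw [← IsLocalizedModule.mk'_cancel' f m s, Submonoid.smul_def, ← algebraMap_smul B (s : A), ← hc,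
          smul_smul, Units.inv_mul, one_smul]
      rw [hx]
      exact Submodule.smul_mem _ _ hm
    obtain ⟨rs, hl, hm, hw⟩ := (Depth.le_idealDepth_iff hI n).mp h
    rw [LocCoh.depth, Depth.le_idealDepth_iff hne]
    refine ⟨rs.map (algebraMap A B), by rw [List.length_map, hl], fun r hr => ?_,
      hw.of_flat_of_isBaseChange (IsLocalizedModule.isBaseChange p.asIdeal.primeCompl B f)⟩
    obtain ⟨a, ha, rfl⟩ := List.mem_map.mp hr
    exact (IsLocalization.AtPrime.to_map_mem_maximal_iff B p.asIdeal a).mpr (hIp (hm a ha))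
  · intro H
    by_cases hI : I • (⊤ : Submodule A M) = ⊤
    · rw [LocCoh.idealDepth, if_pos hI]
      exact le_top
    obtain ⟨rs, hrs⟩ := Depth.exists_isMaxSeq (M := M) hI
    rw [Depth.idealDepth_eq_length hI hrs]
    obtain ⟨hw, hm, x, hx, hx'⟩ := hrs
    let P : Submodule A M := Ideal.ofList rs • ⊤
    have hx0 : (Submodule.Quotient.mk x : M ⧸ P) ≠ 0 := fun h => hx ((Submodule.Quotient.mk_eq_zero _).mp h)
    obtain ⟨q, hqass, hle⟩ := exists_le_isAssociatedPrime_of_isNoetherianRing (R := A) _ hx0
    haveI := hqass.isPrime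
    obtain ⟨-, y, hy⟩ := isAssociatedPrime_iff.mp hqass
    obtain ⟨y, rfl⟩ := Submodule.Quotient.mk_surjective _ y
    have hmem : ∀ c : A, c ∈ q ↔ c • y ∈ P := fun c => by
      rw [hy, Submodule.mem_colon_singleton, Submodule.mem_bot, ← Submodule.Quotient.mk_smul,
        Submodule.Quotient.mk_eq_zero]
    have hIq : I ≤ q := fun c hc => hle (Submodule.mem_colon_singleton.mpr ((Submodule.mem_bot A).mpr (by
      rw [← Submodule.Quotient.mk_smul, Submodule.Quotient.mk_eq_zero]
      exact hx' c hc)))
    let B := Localization.AtPrime q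
    let N := LocalizedModule q.primeCompl M
    let f := LocalizedModule.mkLinearMap q.primeCompl M
    haveI : Module.Flat A B := IsLocalization.flat B q.primeCompl
    let L : Submodule B N := Submodule.localized' B q.primeCompl f P
    have hL : ∀ a ∈ Ideal.ofList rs, ∀ z : N, algebraMap A B a • z ∈ L := fun a ha z => by
      obtain ⟨⟨m, s⟩, rfl⟩ := IsLocalizedModule.mk'_surjective q.primeCompl f z
      rw [Function.uncurry_apply_pair, algebraMap_smul, ← IsLocalizedModule.mk'_smul, Submodule.mem_localized']
      exact ⟨a • m, Submodule.smul_mem_smul ha Submodule.mem_top, s, rfl⟩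
    have hJL : Ideal.ofList (rs.map (algebraMap A B)) • (⊤ : Submodule B N) ≤ L := by
      rw [← Ideal.map_ofList]
      refine Submodule.smul_le.mpr fun c hc z _ => ?_
      induction hc using Submodule.span_induction with
      | mem w hw' =>
        obtain ⟨a, ha, rfl⟩ := hw'
        exact hL a ha z
      | zero => rw [zero_smul]; exact zero_mem _
      | add a b _ _ ha hb => rw [add_smul]; exact add_mem ha hb
      | smul a b _ hb => rw [smul_eq_mul, mul_smul]; exact L.smul_mem a hb
    have hfy : f y ∉ L := by
      intro hfy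
      rw [Submodule.mem_localized'] at hfy
      obtain ⟨m, hmP, s, hms⟩ := hfy
      rw [← IsLocalizedModule.mk'_one q.primeCompl f y, IsLocalizedModule.mk'_eq_mk'_iff] at hms
      obtain ⟨c, hc⟩ := hms
      simp only [Submonoid.smul_def, one_smul] at hc
      have : ((c : A) * (s : A)) ∈ q := by
        rw [hmem, mul_smul]
        first
          | exact hc ▸ P.smul_mem (c : A) hmP
          | exact hc.symm ▸ P.smul_mem (c : A) hmP
      rcases (hqass.isPrime).mem_or_mem this with h | h
      exacts [c.2 h, s.2 h]
    haveI : Nontrivial N := nontrivial_of_ne (f y) 0 fun h => hfy (h ▸ L.zero_mem)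
    have hne := CAlgBasics.maximalIdeal_smul_top_ne_top (R := B) (M := N)
    have hmax : Depth.IsMaxSeq (maximalIdeal B) N (rs.map (algebraMap A B)) := by
      refine ⟨hw.of_flat_of_isBaseChange (IsLocalizedModule.isBaseChange q.primeCompl B f), fun r hr => ?_,
        f y, fun h => hfy (hJL h), fun r hr => ?_⟩
      · obtain ⟨a, ha, rfl⟩ := List.mem_map.mp hr
        exact (IsLocalization.AtPrime.to_map_mem_maximal_iff B q a).mpr (hIq (hm a ha))
      · rw [← Ideal.map_ofList]
        rw [← Localization.AtPrime.map_eq_maximalIdeal] at hr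
        induction hr using Submodule.span_induction with
        | mem w hw' =>
          obtain ⟨a, ha, rfl⟩ := hw'
          rw [algebraMap_smul, ← map_smul]
          refine Submodule.smul_induction_on ((hmem a).mp ha) (fun c hc m _ => ?_) fun u v hu hv => ?_
          · rw [map_smul, ← algebraMap_smul B c (f m)]
            exact Submodule.smul_mem_smul (Ideal.mem_map_of_mem _ hc) Submodule.mem_top
          · rw [map_add]
            exact add_mem hu hv
        | zero => rw [zero_smul]; exact zero_mem _
        | add a b _ _ ha hb => rw [add_smul]; exact add_mem ha hb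
        | smul a b _ hb => rw [smul_eq_mul, mul_smul]; exact Submodule.smul_mem _ a hb
    have h := H ⟨q, hqass.isPrime⟩ hIq
    rw [LocCoh.depth, Depth.idealDepth_eq_length hne hmax, List.length_map] at h
    exact h

theorem mem_support_localized_iff (p : Ideal A) [p.IsPrime] (Q : PrimeSpectrum (Localization.AtPrime p)) :
    Q ∈ Module.support (Localization.AtPrime p) (LocalizedModule p.primeCompl M) ↔
      PrimeSpectrum.comap (algebraMap A (Localization.AtPrime p)) Q ∈ Module.support A M := by
  let B := Localization.AtPrime p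
  let f := LocalizedModule.mkLinearMap p.primeCompl M
  constructor
  · intro hQ
    rw [Module.mem_support_iff'] at hQ ⊢
    obtain ⟨x, hx⟩ := hQ
    obtain ⟨⟨m, s⟩, rfl⟩ := IsLocalizedModule.mk'_surjective p.primeCompl f x
    refine ⟨m, fun a ha h => hx (algebraMap A B a) ha ?_⟩
    rw [Function.uncurry_apply_pair, algebraMap_smul, ← IsLocalizedModule.mk'_smul, h, IsLocalizedModule.mk'_zero]
  · intro hQ
    rw [Module.mem_support_iff'] at hQ ⊢
    obtain ⟨m, hm⟩ := hQ
    refine ⟨f m, fun r hr h => ?_⟩
    obtain ⟨⟨a, t⟩, hat⟩ := IsLocalization.surj p.primeCompl r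
    have hfa : f (a • m) = 0 := by
      rw [map_smul, ← algebraMap_smul B a (f m), ← hat, mul_comm, mul_smul, h, smul_zero]
    rw [IsLocalizedModule.eq_zero_iff p.primeCompl] at hfa
    obtain ⟨c, hc⟩ := hfa
    rw [Submonoid.smul_def, smul_smul] at hc
    refine hm _ (fun hin => ?_) hc
    rw [PrimeSpectrum.comap_asIdeal, Ideal.mem_comap, map_mul] at hin
    rcases Q.isPrime.mem_or_mem hin with h' | h'
    · exact Q.isPrime.ne_top (Q.asIdeal.eq_top_of_isUnit_mem h' (IsLocalization.map_units B c))
    · rw [← hat] at h'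
      rcases Q.isPrime.mem_or_mem h' with h'' | h''
      · exact hr h''
      · exact Q.isPrime.ne_top (Q.asIdeal.eq_top_of_isUnit_mem h'' (IsLocalization.map_units B t))

theorem supportDim_localized_le {N : Type u} [AddCommGroup N] [Module A N]
    (h : Module.support A M ⊆ Module.support A N) (p : Ideal A) [p.IsPrime] :
    Module.supportDim (Localization.AtPrime p) (LocalizedModule p.primeCompl M) ≤
      Module.supportDim (Localization.AtPrime p) (LocalizedModule p.primeCompl N) := by
  refine Order.krullDim_le_of_strictMono (fun Q => ⟨Q.1, ?_⟩) fun _ _ hlt => hlt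
  have h1 := h ((mem_support_localized_iff p Q.1).mp Q.2)
  rw [Module.mem_support_iff'] at h1 ⊢
  obtain ⟨m, hm⟩ := h1
  refine ⟨LocalizedModule.mkLinearMap p.primeCompl N m, fun r hr hz => ?_⟩
  obtain ⟨⟨a, t⟩, hat⟩ := IsLocalization.surj p.primeCompl r
  have hfa : LocalizedModule.mkLinearMap p.primeCompl N (a • m) = 0 := by
    rw [map_smul, ← algebraMap_smul (Localization.AtPrime p) a
      (LocalizedModule.mkLinearMap p.primeCompl N m), ← hat, mul_comm, mul_smul, hz, smul_zero]
  rw [IsLocalizedModule.eq_zero_iff p.primeCompl] at hfa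
  obtain ⟨c, hc⟩ := hfa
  rw [Submonoid.smul_def, smul_smul] at hc
  refine hm _ (fun hin => ?_) hc
  rw [PrimeSpectrum.comap_asIdeal, Ideal.mem_comap, map_mul, ← hat] at hin
  have hunit : ∀ c : p.primeCompl, algebraMap A (Localization.AtPrime p) c ∉ Q.1.asIdeal := fun c h' =>
    Q.1.isPrime.ne_top (Q.1.asIdeal.eq_top_of_isUnit_mem h' (IsLocalization.map_units _ c))
  rcases Q.1.isPrime.mem_or_mem hin with h' | h'
  · exact hunit c h'
  · rcases Q.1.isPrime.mem_or_mem h' with h'' | h''
    exacts [hr h'', hunit t h'']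

theorem one_le_depth_of_reflexive [Module.IsReflexive A M] (p : Ideal A) [p.IsPrime]
    (h : 1 ≤ LocCoh.depth (Localization.AtPrime p) (Localization.AtPrime p)) :
    1 ≤ LocCoh.depth (Localization.AtPrime p) (LocalizedModule p.primeCompl M) := by
  rw [CAlgBasics.depth_congr (M := LocalizedModule p.primeCompl M)
      (N := LocalizedModule p.primeCompl (Dual A M) →ₗ[Localization.AtPrime p] LocalizedModule p.primeCompl A)
      (CAlgBasics.reflexiveLocEquiv M p.primeCompl)]
  rw [← CAlgBasics.depth_congr (M := LocalizedModule p.primeCompl A) (N := Localization.AtPrime p)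
      (CAlgBasics.selfLocEquiv p.primeCompl)] at h
  exact CAlgBasics.one_le_depth_linearMap (M := LocalizedModule p.primeCompl (Dual A M))
    (N := LocalizedModule p.primeCompl A) h

theorem hasSk_of_reflexive (M : Type u) [AddCommGroup M] [Module A M] [Module.Finite A M]
    [Module.IsReflexive A M] {k : ℕ} (hk : k ≤ 2) (h : LocCoh.HasSk k A A) : LocCoh.HasSk k A M := by
  have h2 := CAlgBasics.hasSk_linearMap (M := Dual A M) hk h
  intro p _
  let e := IsLocalizedModule.mapEquiv p.primeCompl (LocalizedModule.mkLinearMap p.primeCompl M)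
    (LocalizedModule.mkLinearMap p.primeCompl (Dual A (Dual A M))) (Localization.AtPrime p) (Module.evalEquiv A M)
  rw [CAlgBasics.depth_congr (M := LocalizedModule p.primeCompl M)
      (N := LocalizedModule p.primeCompl (Dual A (Dual A M))) e,
    Module.supportDim_eq_of_equiv (M := LocalizedModule p.primeCompl M)
      (N := LocalizedModule p.primeCompl (Dual A (Dual A M))) e]
  exact h2 p

theorem depth_localizedSelf_eq (p : Ideal A) [p.IsPrime] :
    LocCoh.depth (Localization.AtPrime p) (LocalizedModule p.primeCompl A) =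
      LocCoh.depth (Localization.AtPrime p) (Localization.AtPrime p) :=
  CAlgBasics.depth_congr (CAlgBasics.selfLocEquiv p.primeCompl)

end Global

end Groth.Agent.QGorLib
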