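import Mathlib
import Groth.Prelude.Def_EGA4b
import Groth.Agent.LocFlat.Fibre
import Groth.Agent.QGorLib.Depth

/-!
Depth one and two lift from the closed fibre of a flat module.
-/

namespace Groth.Agent.QGorLib

open RingTheory.Sequence IsLocalRing Module
open scoped Pointwise
open TensorProduct

universe u

section Local

variable {R S : Type u} [CommRing R] [CommRing S] [IsLocalRing R] [IsLocalRing S] [IsNoetherianRing R]
  [IsNoetherianRing S] [Algebra R S] [IsLocalHom (algebraMap R S)]

/-- An element regular on the closed fibre is regular, with flat quotient. -/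
theorem regular_and_flat_of_fibre {M : Type u} [AddCommGroup M] [Module R M] [Module S M]
    [IsScalarTower R S M] [Module.Finite S M] [Module.Flat R M] (r : S)
    (hr : ∀ x : M, r • x ∈ (maximalIdeal R).map (algebraMap R S) • (⊤ : Submodule S M) →
      x ∈ (maximalIdeal R).map (algebraMap R S) • (⊤ : Submodule S M)) :
    IsSMulRegular M r ∧ Module.Flat R (QuotSMulTop r M) := by
  let u : M →ₗ[R] M := ((r • LinearMap.id : M →ₗ[S] M)).restrictScalars R
  obtain ⟨hinj, hflat⟩ := LocFlat.injective_and_flat_of_residue (S := S) u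
    (LocFlat.lTensor_residue_injective u fun x hx => by
      rw [LocFlat.mem_smul_top_iff (S := S)] at hx ⊢
      exact hr x hx)
  refine ⟨hinj, ?_⟩
  haveI := hflat
  have e : LinearMap.range u = (r • (⊤ : Submodule S M)).restrictScalars R := by
    ext y
    rw [Submodule.restrictScalars_mem, Submodule.mem_smul_pointwise_iff_exists]
    exact ⟨fun ⟨x, hx⟩ => ⟨x, trivial, hx⟩, fun ⟨x, _, hx⟩ => ⟨x, hx⟩⟩
  exact Module.Flat.of_linearEquiv
    ((Submodule.quotEquivOfEq _ _ e).trans (Submodule.Quotient.restrictScalarsEquiv R _)).symm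

/-- Unfolding depth over a quotient ring. -/
theorem exists_seq_of_quotient {M : Type u} [AddCommGroup M] [Module S M] [Module.Finite S M]
    [Nontrivial M] {I : Ideal S} (hI : I ≤ maximalIdeal S) {n : ℕ}
    (h : (n : ℕ∞) ≤ LocCoh.idealDepth ((maximalIdeal S).map (Ideal.Quotient.mk I))
      (M ⧸ (I • ⊤ : Submodule S M))) :
    ∃ rs : List S, rs.length = n ∧ (∀ r ∈ rs, r ∈ maximalIdeal S) ∧
      IsWeaklyRegular (M ⧸ (I • ⊤ : Submodule S M)) rs := by
  haveI : Nontrivial (M ⧸ (I • ⊤ : Submodule S M)) := Submodule.Quotient.nontrivial_iff.mpr fun h =>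
    CAlgBasics.maximalIdeal_smul_top_ne_top (R := S) (M := M)
      (eq_top_iff.mpr (h.ge.trans (Submodule.smul_mono_left hI)))
  haveI : Module.Finite (S ⧸ I) (M ⧸ (I • ⊤ : Submodule S M)) := Module.Finite.of_restrictScalars_finite S _ _
  have hne : (maximalIdeal S).map (Ideal.Quotient.mk I) •
      (⊤ : Submodule (S ⧸ I) (M ⧸ (I • ⊤ : Submodule S M))) ≠ ⊤ := by
    intro htop
    refine CAlgBasics.maximalIdeal_smul_top_ne_top (R := S) (M := M ⧸ (I • ⊤ : Submodule S M)) ?_
    have h2 := congrArg (Submodule.restrictScalars S) htop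
    rw [Submodule.restrictScalars_top] at h2
    refine Eq.trans ?_ h2
    show _ = Submodule.restrictScalars S ((maximalIdeal S).map (algebraMap S (S ⧸ I)) • ⊤)
    rw [Submodule.restrictScalars_map_smul_eq, Submodule.restrictScalars_top]
  obtain ⟨rs, hl, hm, hw⟩ := (Depth.le_idealDepth_iff hne n).mp h
  have hlift : ∀ ts : List (S ⧸ I), (∀ t ∈ ts, t ∈ (maximalIdeal S).map (Ideal.Quotient.mk I)) →
      ∃ ss : List S, ss.map (algebraMap S (S ⧸ I)) = ts ∧ ∀ s ∈ ss, s ∈ maximalIdeal S := by
    intro ts hts
    induction ts with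
    | nil => exact ⟨[], rfl, by simp⟩
    | cons t ts ih =>
      obtain ⟨ss, hss, hmem⟩ := ih fun x hx => hts x (List.mem_cons_of_mem _ hx)
      obtain ⟨s, hs, hst⟩ :=
        (Ideal.mem_map_iff_of_surjective _ Ideal.Quotient.mk_surjective).mp (hts t (List.mem_cons_self ..))
      exact ⟨s :: ss, by rw [List.map_cons, hss]; exact congrArg (· :: ts) hst,
        fun x hx => (List.mem_cons.mp hx).elim (fun h => h ▸ hs) (hmem x)⟩
  obtain ⟨ss, rfl, hmem⟩ := hlift rs hm
  exact ⟨ss, by simpa using hl, hmem, (isWeaklyRegular_map_algebraMap_iff (S ⧸ I) _ ss).mp hw⟩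

variable {M : Type u} [AddCommGroup M] [Module R M] [Module S M]
    [IsScalarTower R S M] [Module.Finite S M] [Module.Flat R M]

theorem one_le_depth_of_fibre
    (h : 1 ≤ LocCoh.idealDepth ((maximalIdeal S).map (Ideal.Quotient.mk ((maximalIdeal R).map (algebraMap R S))))
      (M ⧸ ((maximalIdeal R).map (algebraMap R S) • ⊤ : Submodule S M))) :
    1 ≤ LocCoh.depth S M := by
  rcases subsingleton_or_nontrivial M with hM | hM
  · rw [CAlgBasics.depth_eq_top]
    exact le_top
  obtain ⟨rs, hl, hm, hw⟩ := exists_seq_of_quotient (M := M) (IsLocalRing.map_maximalIdeal_le (algebraMap R S)) (n := 1) (by exact_mod_cast h)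
  obtain ⟨r, rfl⟩ := List.length_eq_one_iff.mp hl
  rw [isWeaklyRegular_cons_iff] at hw
  obtain ⟨hreg, -⟩ := regular_and_flat_of_fibre (R := R) (M := M) r fun x hx => by
    rw [← Submodule.Quotient.mk_eq_zero] at hx ⊢
    exact hw.1.right_eq_zero_of_smul hx
  rw [CAlgBasics.one_le_depth_iff]
  exact CAlgBasics.socleZero_of_isSMulRegular (hm r (by simp)) hreg

theorem two_le_depth_of_fibre
    (h : 2 ≤ LocCoh.idealDepth ((maximalIdeal S).map (Ideal.Quotient.mk ((maximalIdeal R).map (algebraMap R S))))
      (M ⧸ ((maximalIdeal R).map (algebraMap R S) • ⊤ : Submodule S M))) :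
    2 ≤ LocCoh.depth S M := by
  rcases subsingleton_or_nontrivial M with hM | hM
  · rw [CAlgBasics.depth_eq_top]
    exact le_top
  obtain ⟨rs, hl, hm, hw⟩ := exists_seq_of_quotient (M := M) (IsLocalRing.map_maximalIdeal_le (algebraMap R S)) (n := 2) (by exact_mod_cast h)
  obtain ⟨r, t, rfl⟩ := List.length_eq_two.mp hl
  rw [isWeaklyRegular_cons_iff, isWeaklyRegular_cons_iff] at hw
  obtain ⟨hwr, hwt, -⟩ := hw
  obtain ⟨hreg, hflat⟩ := regular_and_flat_of_fibre (R := R) (M := M) r fun x hx => by
    rw [← Submodule.Quotient.mk_eq_zero] at hx ⊢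
    exact hwr.right_eq_zero_of_smul hx
  haveI := hflat
  have hmR := IsLocalRing.map_maximalIdeal_le (algebraMap R S)
  set Im := (maximalIdeal R).map (algebraMap R S) with hIm
  set P : Submodule S M := Im • ⊤
  have hP : Submodule.map (Submodule.mkQ (r • ⊤ : Submodule S M)) P = Im • ⊤ := by
    rw [Submodule.map_smul'', Submodule.map_top, Submodule.range_mkQ]
  obtain ⟨htreg, -⟩ := regular_and_flat_of_fibre (R := R) t (M := QuotSMulTop r M) fun x hx => by
    obtain ⟨x, rfl⟩ := Submodule.Quotient.mk_surjective _ x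
    rw [← hP, ← Submodule.Quotient.mk_smul, Submodule.mem_map] at hx
    obtain ⟨y, hy, hxy⟩ := hx
    rw [Submodule.mkQ_apply, Submodule.Quotient.eq, Submodule.mem_smul_pointwise_iff_exists] at hxy
    obtain ⟨z, -, hz⟩ := hxy
    have h0 : (Submodule.Quotient.mk (Submodule.Quotient.mk x : M ⧸ P) : QuotSMulTop r (M ⧸ P)) = 0 := by
      refine hwt.right_eq_zero_of_smul ?_
      rw [← Submodule.Quotient.mk_smul, Submodule.Quotient.mk_eq_zero, Submodule.mem_smul_pointwise_iff_exists]
      refine ⟨Submodule.Quotient.mk (-z), trivial, ?_⟩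
      rw [← Submodule.Quotient.mk_smul, ← Submodule.Quotient.mk_smul, Submodule.Quotient.eq, smul_neg, hz]
      convert P.neg_mem hy using 1
      abel
    rw [Submodule.Quotient.mk_eq_zero, Submodule.mem_smul_pointwise_iff_exists] at h0
    obtain ⟨v, -, hv⟩ := h0
    obtain ⟨v, rfl⟩ := Submodule.Quotient.mk_surjective _ v
    rw [← Submodule.Quotient.mk_smul, Submodule.Quotient.eq] at hv
    rw [← hP, Submodule.mem_map]
    refine ⟨x - r • v, ?_, ?_⟩
    · convert P.neg_mem hv using 1
      abel
    · rw [Submodule.mkQ_apply, Submodule.Quotient.eq, sub_sub_cancel_left]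
      exact Submodule.neg_mem _ (Submodule.smul_mem_pointwise_smul _ _ _ trivial)
  rw [← Nat.cast_ofNat, CAlgBasics.natCast_le_depth_iff]
  exact ⟨[r, t], rfl, (isWeaklyRegular_cons_iff M r [t]).mpr ⟨hreg,
    (isWeaklyRegular_cons_iff _ t []).mpr ⟨htreg, IsWeaklyRegular.nil _ _⟩⟩, hm⟩

end Local

section Global

variable {A B : Type u} [CommRing A] [CommRing B] [IsNoetherianRing A] [IsNoetherianRing B] [Algebra A B]
  (E : Type u) [AddCommGroup E] [Module B E] [Module A E] [IsScalarTower A B E] [Module.Finite B E]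
  [Module.Flat A E] (q : Ideal B) [q.IsPrime]

include A in
theorem flat_localizedModule : Module.Flat A (LocalizedModule q.primeCompl E) := by
  let g := LocalizedModule.mkLinearMap q.primeCompl E
  rw [Module.Flat.iff_lTensor_injective']
  intro I
  have h0 : Function.Injective (AlgebraTensorModule.lTensor B E I.subtype) :=
    Module.Flat.lTensor_preserves_injective_linearMap I.subtype Subtype.val_injective
  have h1 := IsLocalizedModule.map_injective q.primeCompl
    (AlgebraTensorModule.rTensor A I g) (AlgebraTensorModule.rTensor A A g)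
    (AlgebraTensorModule.lTensor B E I.subtype) h0
  simpa [IsLocalizedModule.map_lTensor] using h1

theorem depth_of_fibre {k : ℕ} (hk : k = 1 ∨ k = 2)
    (h : (k : ℕ∞) ≤ LocCoh.idealDepth (q.map (algebraMap B (EGA4.FibLocRing A B q))) (EGA4.FibLocMod A B q E)) :
    (k : ℕ∞) ≤ LocCoh.depth (Localization.AtPrime q) (LocalizedModule q.primeCompl E) := by
  let p : Ideal A := q.comap (algebraMap A B)
  let R := Localization.AtPrime p
  let S := Localization.AtPrime q
  let N := LocalizedModule q.primeCompl E
  let φ : R →+* S := Localization.localRingHom p q (algebraMap A B) rfl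
  letI : Algebra R S := φ.toAlgebra
  haveI : IsLocalHom (algebraMap R S) := Localization.isLocalHom_localRingHom p q (algebraMap A B) rfl
  haveI : IsScalarTower A R S := IsScalarTower.of_algebraMap_eq fun a => by
    show algebraMap A S a = φ (algebraMap A R a)
    rw [Localization.localRingHom_to_map, ← IsScalarTower.algebraMap_apply]
  letI : Module R N := Module.compHom N φ
  haveI : IsScalarTower R S N := IsScalarTower.of_algebraMap_smul fun _ _ => rfl
  haveI : IsScalarTower A R N := IsScalarTower.of_algebraMap_smul fun a n => by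
    show φ (algebraMap A R a) • n = a • n
    rw [Localization.localRingHom_to_map, algebraMap_smul, algebraMap_smul]
  haveI : Module.Finite S N := Module.Finite.of_isLocalizedModule q.primeCompl (LocalizedModule.mkLinearMap q.primeCompl E)
  haveI : Module.Flat R N := (Module.flat_iff_of_isLocalization R p.primeCompl N).mpr (flat_localizedModule E q)
  have hI : p.map (algebraMap A S) = (maximalIdeal R).map (algebraMap R S) := by
    rw [IsScalarTower.algebraMap_eq A R S, ← Ideal.map_map, Localization.AtPrime.map_eq_maximalIdeal]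
  have hq : q.map (algebraMap B (EGA4.FibLocRing A B q)) =
      (maximalIdeal S).map (Ideal.Quotient.mk (p.map (algebraMap A S))) := by
    rw [IsScalarTower.algebraMap_eq B S (EGA4.FibLocRing A B q), ← Ideal.map_map,
      Localization.AtPrime.map_eq_maximalIdeal]
    rfl
  rw [hq] at h
  have key : ∀ I : Ideal S, I = (maximalIdeal R).map (algebraMap R S) →
      (k : ℕ∞) ≤ LocCoh.idealDepth ((maximalIdeal S).map (Ideal.Quotient.mk I)) (N ⧸ (I • ⊤ : Submodule S N)) →
      (k : ℕ∞) ≤ LocCoh.depth S N := by
    rintro I rfl hh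
    rcases hk with rfl | rfl
    · exact_mod_cast one_le_depth_of_fibre (R := R) (by exact_mod_cast hh)
    · exact_mod_cast two_le_depth_of_fibre (R := R) (by exact_mod_cast hh)
  exact key _ hI h

variable (A) in
theorem fibLocRing_depth_congr :
    LocCoh.idealDepth (q.map (algebraMap B (EGA4.FibLocRing A B q))) (EGA4.FibLocMod A B q B) =
      LocCoh.idealDepth (q.map (algebraMap B (EGA4.FibLocRing A B q))) (EGA4.FibLocRing A B q) := by
  let S := Localization.AtPrime q
  let I : Ideal S := (q.comap (algebraMap A B)).map (algebraMap A S)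
  let e0 : (LocalizedModule q.primeCompl B ⧸ (I • ⊤ : Submodule S (LocalizedModule q.primeCompl B))) ≃ₗ[S] S ⧸ I :=
    Submodule.Quotient.equiv _ _ (CAlgBasics.selfLocEquiv q.primeCompl) (by
      rw [Submodule.map_smul'', Submodule.map_top, LinearEquiv.range, smul_eq_mul, Ideal.mul_top])
  exact CAlgBasics.idealDepth_congr (LinearEquiv.extendScalarsOfSurjective (Ideal.Quotient.mk_surjective (I := I)) e0)

end Global

end Groth.Agent.QGorLib
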