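import Mathlib
import Groth.Agent.QGorLib.Depth

/-!
A reflexivity criterion over arbitrary noetherian rings: reflexive off `V(I)` and depth at least two along `I`.
-/

namespace Groth.Agent.QGorLib

open RingTheory.Sequence IsLocalRing Module

universe u

variable {A : Type u} [CommRing A] [IsNoetherianRing A]
  {G : Type u} [AddCommGroup G] [Module A G] [Module.Finite A G]

theorem two_le_depth_of_reflexive [Module.IsReflexive A G] (p : Ideal A) [p.IsPrime]
    (h : 2 ≤ LocCoh.depth (Localization.AtPrime p) (Localization.AtPrime p)) :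
    2 ≤ LocCoh.depth (Localization.AtPrime p) (LocalizedModule p.primeCompl G) := by
  rw [CAlgBasics.depth_congr (M := LocalizedModule p.primeCompl G)
      (N := LocalizedModule p.primeCompl (Dual A G) →ₗ[Localization.AtPrime p] LocalizedModule p.primeCompl A)
      (CAlgBasics.reflexiveLocEquiv G p.primeCompl)]
  rw [← depth_localizedSelf_eq] at h
  exact CAlgBasics.two_le_depth_linearMap (M := LocalizedModule p.primeCompl (Dual A G))
    (N := LocalizedModule p.primeCompl A) h

/-- What reflexivity of a stalk says about the evaluation map. -/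
theorem eval_conditions_of_reflexive_localization (p : Ideal A) [p.IsPrime]
    [Module.IsReflexive (Localization.AtPrime p) (LocalizedModule p.primeCompl G)] :
    (∀ x : G, Dual.eval A G x = 0 → ∃ a ∉ p, a • x = 0) ∧
      ∀ y : Dual A (Dual A G), ∃ a ∉ p, ∃ g : G, a • y = Dual.eval A G g := by
  letI := Module.finitePresentation_of_finite A G
  letI := Module.finitePresentation_of_finite A (Dual A G)
  let B := Localization.AtPrime p
  let N := LocalizedModule p.primeCompl G
  let f := LocalizedModule.mkLinearMap p.primeCompl G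
  let T : Dual A G →ₗ[A] Dual B N :=
    IsLocalizedModule.mapExtendScalars p.primeCompl f (Algebra.linearMap A B) B
  haveI : IsLocalizedModule p.primeCompl T :=
    Module.FinitePresentation.isLocalizedModule_mapExtendScalars p.primeCompl _ _ B
  have hT : ∀ (φ : Dual A G) (x : G), T φ (f x) = algebraMap A B (φ x) := fun φ x =>
    IsLocalizedModule.map_apply p.primeCompl f (Algebra.linearMap A B) φ x
  constructor
  · intro x hx
    have h0 : f x = 0 := by
      refine (Module.bijective_dual_eval B N).1 ?_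
      rw [map_zero]
      refine LinearMap.ext fun ψ => ?_
      obtain ⟨⟨φ, s⟩, rfl⟩ := IsLocalizedModule.mk'_surjective p.primeCompl T ψ
      obtain ⟨c, hc⟩ := IsLocalization.map_units B s
      have h1 : algebraMap A B (s : A) * IsLocalizedModule.mk' T φ s (f x) = 0 := by
        have h2 := LinearMap.congr_fun (IsLocalizedModule.mk'_cancel' T φ s) (f x)
        rw [hT, Submonoid.smul_def, LinearMap.smul_apply, Algebra.smul_def] at h2
        have h3 : φ x = 0 := LinearMap.congr_fun hx φ
        rw [h2, h3, map_zero]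
      rw [← hc] at h1
      exact (Units.mul_right_eq_zero c).mp h1
    obtain ⟨⟨a, ha⟩, h'⟩ := (IsLocalizedModule.eq_zero_iff p.primeCompl _).mp h0
    exact ⟨a, ha, h'⟩
  · intro y
    let Y : Dual B (Dual B N) := IsLocalizedModule.mapExtendScalars p.primeCompl T (Algebra.linearMap A B) B y
    have hY : ∀ φ, Y (T φ) = algebraMap A B (y φ) := fun φ =>
      IsLocalizedModule.map_apply p.primeCompl T (Algebra.linearMap A B) y φ
    obtain ⟨w, hw⟩ := (Module.bijective_dual_eval B N).2 Y
    obtain ⟨⟨g, s⟩, rfl⟩ := IsLocalizedModule.mk'_surjective p.primeCompl f w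
    have hcomp : (Algebra.linearMap A B).comp ((s : A) • y) = (Algebra.linearMap A B).comp (Dual.eval A G g) := by
      refine LinearMap.ext fun φ => ?_
      show algebraMap A B ((s : A) * y φ) = algebraMap A B (φ g)
      rw [map_mul, ← hY, ← hw, ← hT φ g, ← IsLocalizedModule.mk'_cancel' f g s, Submonoid.smul_def,
        Dual.eval_apply, ← algebraMap_smul B (s : A) (IsLocalizedModule.mk' f g s), map_smul, smul_eq_mul]
      rfl
    obtain ⟨c, hc⟩ := Module.Finite.exists_smul_of_comp_eq_of_isLocalizedModule p.primeCompl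
      (Algebra.linearMap A B) _ _ hcomp
    refine ⟨c * s, (c * s).2, (c : A) • g, ?_⟩
    rw [mul_smul, map_smul]
    exact hc

theorem isReflexive_of_off {I : Ideal A} (hA : 1 ≤ LocCoh.idealDepth I A)
    (hU : ∀ p : PrimeSpectrum A, ¬ I ≤ p.asIdeal →
      Module.IsReflexive (Localization.AtPrime p.asIdeal) (LocalizedModule p.asIdeal.primeCompl G))
    (hG : 2 ≤ LocCoh.idealDepth I G) : Module.IsReflexive A G := by
  by_cases hIA : I • (⊤ : Submodule A A) = ⊤
  · have hI : I = ⊤ := by simpa using hIA
    refine ⟨(injective_iff_map_eq_zero _).mpr fun x hx => ?_, fun y => ?_⟩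
    · by_contra hne
      obtain ⟨m, hm, hle⟩ := Ideal.exists_le_maximal (LinearMap.ker (LinearMap.toSpanSingleton A G x))
        ((Ideal.ne_top_iff_one _).mpr (by simpa using hne))
      haveI := hU ⟨m, hm.isPrime⟩ (fun h => hm.ne_top (top_le_iff.mp (hI ▸ h)))
      obtain ⟨a, ha, h⟩ := (eval_conditions_of_reflexive_localization m).1 x hx
      exact ha (hle (by simpa using h))
    · by_contra hne
      obtain ⟨m, hm, hle⟩ := Ideal.exists_le_maximal
        ((LinearMap.range (Dual.eval A G)).comap (LinearMap.toSpanSingleton A _ y))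
        ((Ideal.ne_top_iff_one _).mpr (by simpa using hne))
      haveI := hU ⟨m, hm.isPrime⟩ (fun h => hm.ne_top (top_le_iff.mp (hI ▸ h)))
      obtain ⟨a, ha, g, h⟩ := (eval_conditions_of_reflexive_localization m).2 y
      exact ha (hle ⟨g, h.symm⟩)
  obtain ⟨as, hal, ham, haw⟩ := (Depth.le_idealDepth_iff hIA 1).mp (by exact_mod_cast hA)
  obtain ⟨a, rfl⟩ := List.length_eq_one_iff.mp hal
  have hareg : IsSMulRegular A a := ((isWeaklyRegular_cons_iff A a []).mp haw).1
  have ha : a ∈ I := ham a (by simp)
  by_cases hIG : I • (⊤ : Submodule A G) = ⊤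
  · -- the support of `G` misses `V(I)`
    have hoff : ∀ p : PrimeSpectrum A, I ≤ p.asIdeal → ∀ x : G, ∃ b ∉ p.asIdeal, b • x = 0 := fun p hp x => by
      obtain ⟨r, hr, hr0⟩ := Submodule.exists_sub_one_mem_and_smul_eq_zero_of_fg_of_le_smul I ⊤
        Module.Finite.fg_top hIG.ge
      refine ⟨r, fun hrp => p.isPrime.ne_top ((Ideal.eq_top_iff_one _).mpr ?_), hr0 x Submodule.mem_top⟩
      have h := p.asIdeal.sub_mem hrp (hp hr)
      rwa [sub_sub_cancel] at h
    refine ⟨(injective_iff_map_eq_zero _).mpr fun x hx => ?_, fun y => ?_⟩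
    · by_contra hne
      obtain ⟨m, hm, hle⟩ := Ideal.exists_le_maximal (LinearMap.ker (LinearMap.toSpanSingleton A G x))
        ((Ideal.ne_top_iff_one _).mpr (by simpa using hne))
      obtain ⟨b, hb, h⟩ : ∃ b ∉ m, b • x = 0 := by
        by_cases hmI : I ≤ m
        · exact hoff ⟨m, hm.isPrime⟩ hmI x
        · haveI := hU ⟨m, hm.isPrime⟩ hmI
          exact (eval_conditions_of_reflexive_localization m).1 x hx
      exact hb (hle (by simpa using h))
    · by_contra hne
      obtain ⟨m, hm, hle⟩ := Ideal.exists_le_maximal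
        ((LinearMap.range (Dual.eval A G)).comap (LinearMap.toSpanSingleton A _ y))
        ((Ideal.ne_top_iff_one _).mpr (by simpa using hne))
      obtain ⟨b, hb, g, h⟩ : ∃ b ∉ m, ∃ g : G, b • y = Dual.eval A G g := by
        by_cases hmI : I ≤ m
        · obtain ⟨r, hr, hr0⟩ := Submodule.exists_sub_one_mem_and_smul_eq_zero_of_fg_of_le_smul I ⊤
            Module.Finite.fg_top hIG.ge
          refine ⟨r, fun hrp => hm.ne_top ((Ideal.eq_top_iff_one _).mpr ?_), 0, ?_⟩
          · have h := m.sub_mem hrp (hmI hr)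
            rwa [sub_sub_cancel] at h
          · rw [map_zero]
            refine LinearMap.ext fun φ => ?_
            have hφ : r • φ = 0 := LinearMap.ext fun x => by
              rw [LinearMap.smul_apply, ← map_smul, hr0 x Submodule.mem_top, map_zero]
              rfl
            rw [LinearMap.smul_apply, ← map_smul, hφ, map_zero]
            rfl
        · haveI := hU ⟨m, hm.isPrime⟩ hmI
          exact (eval_conditions_of_reflexive_localization m).2 y
      exact hb (hle ⟨g, h.symm⟩)
  obtain ⟨rs, hrl, hrm, hrw'⟩ := (Depth.le_idealDepth_iff hIG 2).mp (by exact_mod_cast hG)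
  obtain ⟨r, t, rfl⟩ := List.length_eq_two.mp hrl
  rw [isWeaklyRegular_cons_iff, isWeaklyRegular_cons_iff] at hrw'
  obtain ⟨hrreg, htreg, -⟩ := hrw'
  have hr : r ∈ I := hrm r (by simp)
  have ht : t ∈ I := hrm t (by simp)
  have hinj : ∀ x : G, Dual.eval A G x = 0 → x = 0 := by
    intro x hx
    by_contra hne
    obtain ⟨q, hq, hle⟩ := exists_le_isAssociatedPrime_of_isNoetherianRing (R := A) x hne
    haveI := hq.isPrime
    obtain ⟨-, z, hz⟩ := isAssociatedPrime_iff.mp hq
    have hIq : I ≤ q := by
      by_contra hIq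
      haveI := hU ⟨q, hq.isPrime⟩ hIq
      obtain ⟨b, hb, hb0⟩ := (eval_conditions_of_reflexive_localization q).1 x hx
      exact hb (hle (Submodule.mem_colon_singleton.mpr ((Submodule.mem_bot A).mpr hb0)))
    have hrz : r • z = 0 := by
      have := hIq hr
      rwa [hz, Submodule.mem_colon_singleton, Submodule.mem_bot] at this
    have hz0 : z = 0 := hrreg (by simpa using hrz)
    exact hq.isPrime.ne_top ((Ideal.eq_top_iff_one _).mpr (by
      rw [hz, hz0, Submodule.mem_colon_singleton, smul_zero]; exact zero_mem _))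
  refine ⟨(injective_iff_map_eq_zero _).mpr hinj, fun y => ?_⟩
  by_contra hne
  obtain ⟨q, hq, hle⟩ := exists_le_isAssociatedPrime_of_isNoetherianRing (R := A)
    (Submodule.Quotient.mk y : Dual A (Dual A G) ⧸ LinearMap.range (Dual.eval A G))
    (fun h => hne ((Submodule.Quotient.mk_eq_zero _).mp h))
  haveI := hq.isPrime
  obtain ⟨-, z, hz⟩ := isAssociatedPrime_iff.mp hq
  obtain ⟨z, rfl⟩ := Submodule.Quotient.mk_surjective _ z
  have hmem : ∀ c : A, c ∈ q ↔ c • z ∈ LinearMap.range (Dual.eval A G) := fun c => by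
    rw [hz, Submodule.mem_colon_singleton, Submodule.mem_bot, ← Submodule.Quotient.mk_smul,
      Submodule.Quotient.mk_eq_zero]
  have hIq : I ≤ q := by
    by_contra hIq
    haveI := hU ⟨q, hq.isPrime⟩ hIq
    obtain ⟨b, hb, g, hbg⟩ := (eval_conditions_of_reflexive_localization q).2 z
    exact hb ((hmem b).mpr ⟨g, hbg.symm⟩)
  obtain ⟨g1, hg1⟩ := (hmem r).mp (hIq hr)
  obtain ⟨g2, hg2⟩ := (hmem t).mp (hIq ht)
  have h12 : t • g1 = r • g2 := sub_eq_zero.mp (hinj _ (by
    rw [map_sub, map_smul, map_smul, hg1, hg2, smul_comm, sub_self]))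
  obtain ⟨g3, hg3⟩ : ∃ g3, g1 = r • g3 := by
    have h0 : (Submodule.Quotient.mk g1 : QuotSMulTop r G) = 0 := htreg (by
      show t • (Submodule.Quotient.mk g1 : QuotSMulTop r G) = t • 0
      rw [smul_zero, ← Submodule.Quotient.mk_smul, Submodule.Quotient.mk_eq_zero, h12]
      exact Submodule.smul_mem_pointwise_smul _ _ _ Submodule.mem_top)
    rw [Submodule.Quotient.mk_eq_zero, Submodule.mem_smul_pointwise_iff_exists] at h0
    obtain ⟨g3, -, h⟩ := h0
    exact ⟨g3, h.symm⟩
  -- `z - ev g3` is killed by `r`, hence by the whole of `I`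
  have hkill : ∀ i ∈ I, i • (z - Dual.eval A G g3) = 0 := by
    intro i hi
    obtain ⟨g4, hg4⟩ := (hmem i).mp (hIq hi)
    have hg5 : i • (z - Dual.eval A G g3) = Dual.eval A G (g4 - i • g3) := by
      rw [smul_sub, map_sub, hg4, map_smul]
    have hr0 : r • (g4 - i • g3) = 0 := hinj _ (by
      rw [map_smul, ← hg5, smul_comm, smul_sub r, ← hg1, hg3, map_smul, sub_self, smul_zero])
    rw [hg5, show g4 - i • g3 = 0 from hrreg (by simpa using hr0), map_zero]
  have hzeq : z = Dual.eval A G g3 := sub_eq_zero.mp (LinearMap.ext fun φ => hareg (by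
    show a • (z - Dual.eval A G g3) φ = a • (0 : A)
    rw [← LinearMap.smul_apply, hkill a ha, smul_zero]
    rfl))
  exact hq.isPrime.ne_top ((Ideal.eq_top_iff_one _).mpr ((hmem 1).mpr ⟨g3, by rw [one_smul, hzeq]⟩))

end Groth.Agent.QGorLib
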