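import Groth.Agent.FibreDualLib.CM
import Groth.Agent.LocDimBC.Scheme
import Groth.Agent.DCohMore.DescFPPF
import Groth.Agent.DCohMore.ProjUnit
import Groth.Agent.S3604

/-!
# The relative canonical sheaf and flat base change
-/

set_option autoImplicit false
set_option linter.style.haveILetI false
set_option linter.unusedSectionVars false
set_option backward.isDefEq.respectTransparency false
set_option maxHeartbeats 1600000

universe u

open CategoryTheory CategoryTheory.Limits AlgebraicGeometry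
open Groth.Agent.DCohLib Groth.Agent.DCohMore Groth.Agent.TwistShriek Groth.Agent.CohBase

attribute [local instance] HasDerivedCategory.standard

noncomputable section

namespace Groth.Agent.QGorLib

/-- The dualizing sheaf pulls back to the dualizing sheaf along a flat change of the affine base. -/
theorem isDualizingSheaf_pullback {A : Type u} [CommRing A] [IsNoetherianRing A] {Y : Scheme.{u}}
    [Y.Over (Spec (CommRingCat.of A))] [IsProper (Y ↘ Spec (CommRingCat.of A))] (d : ℕ)
    (hd : Cyc.HasRelDim (Y ↘ Spec (CommRingCat.of A)) d) (ω : Y.Modules) (hω : RelCanon.IsDualizingSheaf A Y d ω)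
    {B : Type u} [CommRing B] [IsNoetherianRing B] {φ : A →+* B} (hφ : φ.Flat) {Y' : Scheme.{u}}
    [Y'.Over (Spec (CommRingCat.of B))] {p : Y' ⟶ Y}
    (hp : IsPullback p (Y' ↘ Spec (CommRingCat.of B)) (Y ↘ Spec (CommRingCat.of A))
      (Spec.map (CommRingCat.ofHom φ))) :
    RelCanon.IsDualizingSheaf B Y' d ((Scheme.Modules.pullback p).obj ω) := by
  let f := Y ↘ Spec (CommRingCat.of A)
  let f' := Y' ↘ Spec (CommRingCat.of B)
  let g := Spec.map (CommRingCat.ofHom φ)
  let S := Spec (CommRingCat.of A)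
  let T := Spec (CommRingCat.of B)
  haveI : ∀ (R : CommRingCat.{u}), PreservesFiniteLimits (tilde.functor R) := fun R =>
    TildeD.preservesFiniteLimits_tilde
  haveI : IsNoetherianRing (CommRingCat.of A) := inferInstanceAs (IsNoetherianRing A)
  haveI : IsNoetherianRing (CommRingCat.of B) := inferInstanceAs (IsNoetherianRing B)
  haveI : Flat g := HasRingHomProperty.Spec_iff.2 hφ
  haveI : IsProper f' := MorphismProperty.of_isPullback (P := @IsProper) hp ‹IsProper f›
  haveI : Flat p := MorphismProperty.of_isPullback (P := @Flat) hp.flip ‹Flat g›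
  haveI : IsLocallyNoetherian Y := LocallyOfFiniteType.isLocallyNoetherian f
  haveI : CompactSpace Y := QuasiCompact.compactSpace_of_compactSpace f
  haveI : IsNoetherian Y := {}
  haveI : IsLocallyNoetherian Y' := LocallyOfFiniteType.isLocallyNoetherian f'
  haveI : CompactSpace Y' := QuasiCompact.compactSpace_of_compactSpace f'
  haveI : IsNoetherian Y' := {}
  have hdim := (RelDimLib.hasRelDim_iff f d).1 hd
  have hd' : Cyc.HasRelDim f' d := (RelDimLib.hasRelDim_iff f' d).2 fun w =>
    (LocDimBC.fibreDimAt_baseChange hp w).trans (hdim _)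
  have hfib := FibreDualLib.dim_fiber_le f d hd
  have hfib' := FibreDualLib.dim_fiber_le f' d hd'
  haveI := BC.hasRpush f; haveI := BC.hasRpush f'; haveI := BC.hasRpush g; haveI := BC.hasRpush p
  haveI := hasLpull g; haveI := hasLpull p
  have h : DCoh.RpushPreservesQCoh f := rpushQC f
  have h' : DCoh.RpushPreservesQCoh f' := rpushQC f'
  haveI := isLeftAdjoint_rpushQ' f; haveI := isLeftAdjoint_rpushQ' f'
  let a := (DCoh.RpushQ f h).rightAdjoint
  let adj : DCoh.RpushQ f h ⊣ a := Adjunction.ofIsLeftAdjoint (DCoh.RpushQ f h)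
  let a' := (DCoh.RpushQ f' h').rightAdjoint
  let adj' : DCoh.RpushQ f' h' ⊣ a' := Adjunction.ofIsLeftAdjoint (DCoh.RpushQ f' h')
  let O : DCoh.DQCoh S := oQ S
  let O' : DCoh.DQCoh T := oQ T
  haveI : O.obj.IsGE 0 := inferInstanceAs ((DCoh.inD S (Coh.structureModule S)).IsGE 0)
  haveI : O'.obj.IsGE 0 := inferInstanceAs ((DCoh.inD T (Coh.structureModule T)).IsGE 0)
  have hGE : (a.obj O).obj.IsGE (-(d : ℤ)) := by
    simpa using isGE_rightAdjoint_of_fibreDim f d hfib h a adj O 0 ‹_›
  have hGE' : (a'.obj O').obj.IsGE (-(d : ℤ)) := by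
    simpa using isGE_rightAdjoint_of_fibreDim f' d hfib' h' a' adj' O' 0 ‹_›
  obtain ⟨tr₀, htr₀⟩ := exists_isRDualOver_adjoint A Y h a adj O (Iso.refl _) d hGE
    (fun F hF j hj => by
      haveI := hF
      obtain ⟨q, rfl⟩ : ∃ q, j = q + 1 := ⟨j - 1, by omega⟩
      exact subsingleton_HH _ _ (FibreVanishQC.subsingleton_HU_affine f d hfib F q (by omega)))
    (Iso.refl _)
  obtain ⟨tr, htr⟩ := hω
  obtain ⟨e₀⟩ := nonempty_iso_of_isRDualOver_ring A htr₀ htr
  obtain ⟨e, hξ, hbc⟩ := S3604.result Y S Y' T f g f' p hp h h' (rpushQC g) (rpushQC p) a a' adj adj'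
    (lpullQCoh g) (lpullQCoh p) (adjQ g (rpushQC g)) (adjQ p (rpushQC p))
  haveI := hbc O 0 fun i hi => DerivedCategory.isZero_of_isGE O.obj 0 i hi
  let b := (ObjectProperty.ι _).mapIso
    (asIso (Dual3.bcMap adj adj' e (adjQ g (rpushQC g)) (adjQ p (rpushQC p)) O (hξ _)))
  obtain ⟨u⟩ := DCohMore.TwistFam.nonempty_lpull_structure g
  let uQ : (Dual3.LpullQ g (lpullQCoh g)).obj O ≅ O' := (DCoh.IsQCohD (X := T)).isoMk u
  obtain ⟨t⟩ := nonempty_HD_lpull_flat p (a.obj O).obj (-(d : ℤ))
  let i₂ : DCoh.HD (a'.obj O').obj (-(d : ℤ)) ≅ (Scheme.Modules.pullback p).obj ω :=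
    (DerivedCategory.homologyFunctor Y'.Modules (-(d : ℤ))).mapIso
      (((ObjectProperty.ι _).mapIso (a'.mapIso uQ)).symm ≪≫ b.symm) ≪≫ t.symm ≪≫
      (Scheme.Modules.pullback p).mapIso e₀
  exact exists_isRDualOver_adjoint B Y' h' a' adj' O' (Iso.refl _) d hGE'
    (fun F hF j hj => by
      haveI := hF
      obtain ⟨q, rfl⟩ : ∃ q, j = q + 1 := ⟨j - 1, by omega⟩
      exact subsingleton_HH _ _ (FibreVanishQC.subsingleton_HU_affine f' d hfib' F q (by omega)))
    i₂

end Groth.Agent.QGorLib
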